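import Groth.Agent.S2344
import Groth.Agent.S2345
import Groth.Agent.Ega2.NormalCompl
import Groth.Agent.Picfga.CurveRelDim
import Groth.Agent.VarietyA.SmoothReg
import Groth.Agent.VarietyA.StalkBC
import Groth.Agent.Dix.NormalLoc
import Mathlib.AlgebraicGeometry.AlgClosed.Basic
import Mathlib.AlgebraicGeometry.SpreadingOut

/-!
# The complete smooth curve of a domain of transcendence degree one, mapped to a proper scheme

Let `R` be a domain of finite type and of transcendence degree one over a perfect field `k`, and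
`q : Spec R ⟶ X` a `k`-morphism to a proper `k`-scheme.  There is a proper smooth integral curve
`N` over `k` with a morphism `ν : N ⟶ X` and a dense principal open `Spec R[1/r]` of `Spec R` with
a morphism to `N` over `X`.
-/

set_option autoImplicit false

universe u

open CategoryTheory CategoryTheory.Limits AlgebraicGeometry TopologicalSpace

namespace Groth.Agent.Gaga.H565.CurveOfDomain

attribute [local instance] Curv2.stalkAlgebra

/-- A complete normal curve over a perfect field is smooth of relative dimension one. -/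
theorem smoothOfRelativeDimension_one (k : Type u) [Field k] [PerfectField k] (N : Scheme.{u})
    [N.Over (Spec (CommRingCat.of k))] [IsIntegral N] [IsProper (N ↘ (Spec (CommRingCat.of k)))]
    (hnorm : Pi1.IsNormalScheme N)
    (hdim : ∀ x : N, IsClosed ({x} : Set N) → ringKrullDim (N.presheaf.stalk x) = 1) :
    SmoothOfRelativeDimension 1 (N ↘ (Spec (CommRingCat.of k))) := by
  let p : N ⟶ Spec (CommRingCat.of k) := N ↘ (Spec (CommRingCat.of k))
  have hLN : IsLocallyNoetherian N := LocallyOfFiniteType.isLocallyNoetherian p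
  have hJ : JacobsonSpace N := LocallyOfFiniteType.jacobsonSpace p
  have hcs : CompactSpace N := HasAffineProperty.iff_of_isAffine (P := @QuasiCompact) (f := p) |>.mp inferInstance
  have hlfp : LocallyOfFinitePresentation p := inferInstance
  have htop : p.smoothLocus = ⊤ := by
    by_contra hcon
    have hne : ((p.smoothLocus : Set N)ᶜ).Nonempty := by
      rw [Set.nonempty_compl]
      intro h
      exact hcon (TopologicalSpace.Opens.ext h)
    obtain ⟨x, hx, hxc⟩ := nonempty_inter_closedPoints hne
      p.smoothLocus.isOpen.isClosed_compl.isLocallyClosed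
    apply hx
    have h1 := hdim x hxc
    have h2 := hnorm x
    have := h2.1
    have := h2.2
    have h3 := (Dix.NormalLoc.valuationRing_of_not_two_le_ringKrullDim (N.presheaf.stalk x) (by
      rw [h1]; decide)).1
    have h5 : IsPrincipalIdealRing (N.presheaf.stalk x) := inferInstance
    change x ∈ p.smoothLocus
    rw [VarietyA.SmoothReg.mem_smoothLocus_iff_of_perfectField]
    infer_instance
  have hsm : Smooth p := Scheme.Hom.smoothLocus_eq_top_iff.mp htop
  refine Groth.Agent.Picfga.CurveRelDim.smoothOfRelativeDimension_of_topologicalKrullDim_eq k N p 1 ?_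
  rw [VarietyB.DimSch.topologicalKrullDim_eq_trd k, Groth.Agent.Ega2.NormalCompl.trd_eq_one k hdim]

theorem away_lift_injective {R L : Type*} [CommRing R] [IsDomain R] [CommRing L] (r : R)
    (hr : r ≠ 0) (g : R →+* L) (hg : Function.Injective g) (hu : IsUnit (g r)) :
    Function.Injective (IsLocalization.Away.lift (S := Localization.Away r) r hu) := by
  rw [IsLocalization.injective_iff_map_algebraMap_eq (Submonoid.powers r)]
  intro x y
  rw [IsLocalization.Away.lift_eq, IsLocalization.Away.lift_eq, hg.eq_iff]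
  exact (IsLocalization.injective (Localization.Away r)
    (powers_le_nonZeroDivisors_of_noZeroDivisors hr)).eq_iff

/-- The complete smooth curve of a domain of transcendence degree one over a perfect field, with
its map to a proper scheme. -/
theorem exists_curve_of_domain (k : Type u) [Field k] [PerfectField k] (R : Type u) [CommRing R]
    [IsDomain R] [Algebra k R] [Algebra.FiniteType k R] (htr : Algebra.trdeg k R = 1)
    {X : Scheme.{u}} [X.Over (Spec (CommRingCat.of k))] [IsProper (X ↘ (Spec (CommRingCat.of k)))]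
    (q : Spec (CommRingCat.of R) ⟶ X)
    (hq : q ≫ (X ↘ (Spec (CommRingCat.of k))) = Spec.map (CommRingCat.ofHom (algebraMap k R))) :
    ∃ (N : Scheme.{u}) (_ : N.Over (Spec (CommRingCat.of k))) (_ : IsIntegral N)
      (_ : IsProper (N ↘ (Spec (CommRingCat.of k))))
      (_ : SmoothOfRelativeDimension 1 (N ↘ (Spec (CommRingCat.of k))))
      (ν : N ⟶ X) (_ : ν.IsOver (Spec (CommRingCat.of k)))
      (r : R) (_ : r ≠ 0) (κ : Spec (CommRingCat.of (Localization.Away r)) ⟶ N),
      κ ≫ (N ↘ (Spec (CommRingCat.of k))) =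
        Spec.map (CommRingCat.ofHom (algebraMap k (Localization.Away r))) ∧
      κ ≫ ν = Spec.map (CommRingCat.ofHom (algebraMap R (Localization.Away r))) ≫ q := by
  let K := FractionRing R
  have htrK : Algebra.trdeg k K = 1 := by
    have : Algebra.IsAlgebraic R K := IsLocalization.isAlgebraic K (nonZeroDivisors R)
    have h1 := trdeg_add_eq k R (A := K)
    rw [htr, trdeg_eq_zero (R := R) (A := K), add_zero] at h1
    exact h1.symm
  have : Algebra.EssFiniteType k K := Algebra.EssFiniteType.comp k R K
  have hfg : (⊤ : IntermediateField k K).FG := IntermediateField.fg_top k K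
  obtain ⟨N, hNo, hNi, hNp, hNn, hNd, e, he⟩ := Groth.Agent.S2345.result k K hfg htrK
  have hsm := smoothOfRelativeDimension_one k N hNn hNd
  let S := Spec (CommRingCat.of k)
  let η := genericPoint N
  -- the function field of `N` is `K` over `k`
  let eK : CommRingCat.of K ⟶ N.presheaf.stalk η := CommRingCat.ofHom e.symm.toRingHom
  let eK' : N.presheaf.stalk η ⟶ CommRingCat.of K := CommRingCat.ofHom e.toRingHom
  have heK : eK ≫ eK' = 𝟙 _ := by
    ext x
    exact e.apply_symm_apply x
  have heK' : eK' ≫ eK = 𝟙 _ := by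
    ext x
    exact e.symm_apply_apply x
  have hstr : N.fromSpecStalk η ≫ (N ↘ S) = Spec.map (CommRingCat.ofHom (algebraMap k K) ≫ eK) := by
    rw [VarietyA.StalkBC.fromSpecStalk_comp (N ↘ S) η]
    congr 1
    ext c
    have h1 := he c
    have h2 : algebraMap k (N.presheaf.stalk η) c =
      VarietyA.StalkBC.stalkRingHom (N ↘ S) η c := rfl
    rw [h2] at h1
    change VarietyA.StalkBC.stalkRingHom (N ↘ S) η c = e.symm (algebraMap k K c)
    rw [← h1, RingEquiv.symm_apply_apply]
  -- the rational map `N ⇢ X`
  let φ : Spec (N.presheaf.stalk η) ⟶ X :=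
    Spec.map (CommRingCat.ofHom (algebraMap R K) ≫ eK) ≫ q
  have hφ : φ ≫ (X ↘ S) = N.fromSpecStalk η ≫ (N ↘ S) := by
    rw [hstr, Category.assoc, hq, ← Spec.map_comp, ← Category.assoc, ← CommRingCat.ofHom_comp,
      ← IsScalarTower.algebraMap_eq]
  obtain ⟨V, hηV, f, hf1, hf2⟩ := spread_out_of_isGermInjective' (N ↘ S) (X ↘ S) φ hφ
  have hVd : Dense (V : Set N) := V.2.dense ⟨η, hηV⟩
  obtain ⟨ν, ⟨hν1, hν2⟩, -⟩ := Groth.Agent.S2344.result k N X hNd hNn V hVd f hf2
  have hνη : N.fromSpecStalk η ≫ ν = φ := by
    rw [hf1, ← hν1, Scheme.Opens.fromSpecStalkOfMem_ι_assoc]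
  -- the rational map `Spec R ⇢ N`
  let T := Spec (CommRingCat.of R)
  have hTi : IsIntegral T := inferInstanceAs (IsIntegral (Spec (CommRingCat.of R)))
  let ξ := genericPoint T
  let β : CommRingCat.of R ⟶ T.presheaf.stalk ξ :=
    (Scheme.ΓSpecIso (CommRingCat.of R)).inv ≫ T.presheaf.germ ⊤ ξ trivial
  have hβ : T.fromSpecStalk ξ = Spec.map β := Spec.fromSpecStalk_eq _ _
  have hβi : Function.Injective β.hom := by
    have h1 := germ_injective_of_isIntegral T (U := ⊤) ξ trivial
    have h2 := (ConcreteCategory.bijective_of_isIso (Scheme.ΓSpecIso (CommRingCat.of R)).inv).1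
    exact h1.comp h2
  let F : Field (T.presheaf.stalk ξ) := inferInstanceAs (Field T.functionField)
  let α : CommRingCat.of K ⟶ T.presheaf.stalk ξ :=
    CommRingCat.ofHom (IsFractionRing.lift (A := R) (K := K) (g := β.hom) hβi)
  have hα : CommRingCat.ofHom (algebraMap R K) ≫ α = β := by
    ext x
    exact IsFractionRing.lift_algebraMap (A := R) (K := K) (g := β.hom) hβi x
  let ψ : Spec (T.presheaf.stalk ξ) ⟶ N := Spec.map (eK' ≫ α) ≫ N.fromSpecStalk η
  have hψ : ψ ≫ (N ↘ S) = T.fromSpecStalk ξ ≫ Spec.map (CommRingCat.ofHom (algebraMap k R)) := by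
    rw [Category.assoc, hstr, hβ, ← Spec.map_comp, ← Spec.map_comp]
    congr 1
    rw [← hα]
    have h1 : CommRingCat.ofHom (algebraMap k K) =
        CommRingCat.ofHom (algebraMap k R) ≫ CommRingCat.ofHom (algebraMap R K) := by
      rw [← CommRingCat.ofHom_comp, ← IsScalarTower.algebraMap_eq]
    rw [h1]
    simp only [Category.assoc]
    rw [reassoc_of% heK]
  have hψν : ψ ≫ ν = T.fromSpecStalk ξ ≫ q := by
    rw [Category.assoc, hνη, hβ, ← Category.assoc, ← Spec.map_comp]
    congr 2
    rw [Category.assoc, reassoc_of% heK, hα]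
  obtain ⟨V', hξ, f', hf1', hf2'⟩ := spread_out_of_isGermInjective'
    (Spec.map (CommRingCat.ofHom (algebraMap k R))) (N ↘ S) ψ hψ
  -- a principal open of `Spec R` inside `V'`
  obtain ⟨r, hr0, hrV⟩ : ∃ r : R, r ≠ 0 ∧
      (PrimeSpectrum.basicOpen r : Set (PrimeSpectrum R)) ⊆ (V' : Set T) := by
    obtain ⟨_, ⟨r, rfl⟩, hr1, hr2⟩ :=
      PrimeSpectrum.isTopologicalBasis_basic_opens.exists_subset_of_mem_open hξ V'.2
    refine ⟨r, ?_, hr2⟩
    rintro rfl
    exact hr1 (Ideal.zero_mem _)
  let Rr := Localization.Away r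
  let j : Spec (CommRingCat.of Rr) ⟶ T := Spec.map (CommRingCat.ofHom (algebraMap R Rr))
  have hjo : IsOpenImmersion j := inferInstanceAs (IsOpenImmersion (Spec.map (CommRingCat.ofHom (algebraMap R (Localization.Away r)))))
  have hjr : Set.range j ⊆ Set.range V'.ι := by
    rw [Scheme.Opens.range_ι]
    refine subset_trans (subset_of_eq ?_) hrV
    exact PrimeSpectrum.localization_away_comap_range Rr r
  let l : Spec (CommRingCat.of Rr) ⟶ (V' : Scheme.{u}) := IsOpenImmersion.lift V'.ι j hjr
  have hl : l ≫ V'.ι = j := IsOpenImmersion.lift_fac _ _ _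
  have hle : r ∈ nonZeroDivisors R := mem_nonZeroDivisors_of_ne_zero hr0
  have hRr : IsDomain Rr := IsLocalization.isDomain_localization (powers_le_nonZeroDivisors_of_noZeroDivisors hr0)
  refine ⟨N, hNo, hNi, hNp, hsm, ν, ⟨hν2⟩, r, hr0, l ≫ f', ?_, ?_⟩
  · rw [Category.assoc, hf2', ← Category.assoc, hl, ← Spec.map_comp, ← CommRingCat.ofHom_comp,
      ← IsScalarTower.algebraMap_eq]
  · -- compare on the generic point
    have hru : IsUnit (β.hom r) := by
      refine isUnit_iff_ne_zero.2 fun h => hr0 (hβi ?_)
      rw [h, map_zero]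
    let γ : CommRingCat.of Rr ⟶ T.presheaf.stalk ξ :=
      CommRingCat.ofHom (IsLocalization.Away.lift (S := Rr) r hru)
    have hγ : CommRingCat.ofHom (algebraMap R Rr) ≫ γ = β := by
      ext x
      exact IsLocalization.Away.lift_eq (S := Rr) r hru x
    have hγi : Function.Injective γ.hom := away_lift_injective r hr0 β.hom hβi hru
    let ι : Spec (T.presheaf.stalk ξ) ⟶ Spec (CommRingCat.of Rr) := Spec.map γ
    have hι : ι ≫ j = T.fromSpecStalk ξ := by
      rw [hβ, ← hγ, Spec.map_comp]
    have hιl : ι ≫ l = V'.fromSpecStalkOfMem ξ hξ := by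
      rw [← cancel_mono V'.ι, Category.assoc, hl, hι, Scheme.Opens.fromSpecStalkOfMem_ι]
    have hιd : IsDominant ι := by
      refine isDominant_of_of_appTop_injective ?_
      have h1 := Scheme.ΓSpecIso_naturality γ
      have h2 : Function.Injective ((Spec.map γ).appTop ≫
          (Scheme.ΓSpecIso (T.presheaf.stalk ξ)).hom) := by
        rw [h1]
        exact hγi.comp
          (ConcreteCategory.bijective_of_isIso (Scheme.ΓSpecIso (CommRingCat.of Rr)).hom).1
      exact Function.Injective.of_comp h2
    refine ext_of_isDominant_of_isSeparated (X ↘ S) ?_ ι ?_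
    · rw [Category.assoc, hν2, Category.assoc, hf2', Category.assoc, hq]
      rw [← Category.assoc, hl]
    · rw [Category.assoc, reassoc_of% hιl, ← Category.assoc, ← hf1', hψν, reassoc_of% hι]

end Groth.Agent.Gaga.H565.CurveOfDomain
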