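import Groth.Agent.Gaga.H565.ArcMap
import Groth.Agent.Gaga.H565.CurveOfDomain
import Mathlib.Analysis.Convex.Topology

/-!
# Smooth compactification of a holomorphic arc with algebraic coordinates

A holomorphic arc in a proper scheme over `ℂ`, contained in an affine open `U` whose functions are
algebraic over the coordinate along the arc, factors, after shrinking, through a proper smooth
integral curve.
-/

set_option autoImplicit false
open CategoryTheory AlgebraicGeometry Topology TopologicalSpace Opposite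

namespace Groth.Agent.Gaga.H565.ArcCurve

open Groth.Agent.An.H863.PtsBasic Groth.Agent.An.H863.PtsCont Groth.Agent.Gaga.H978.HMap
  Groth.Agent.An.H868.Chart Groth.Agent.Gaga.H565.ArcMap Groth.Agent.Gaga.H565.CurveOfDomain

universe u

/-- A domain algebraic over one transcendental element has transcendence degree one. -/
lemma trdeg_eq_one (k R : Type u) [Field k] [CommRing R] [IsDomain R] [Algebra k R] (τ : R)
    (h1 : Transcendental k τ)
    (h2 : ∀ x : R, ∃ P : Polynomial (Polynomial k), P ≠ 0 ∧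
      (P.map (Polynomial.aeval (R := k) τ).toRingHom).eval x = 0) : Algebra.trdeg k R = 1 := by
  let _ : Algebra (Polynomial k) R := (Polynomial.aeval (R := k) τ).toRingHom.toAlgebra
  have _ : IsScalarTower k (Polynomial k) R := .of_algebraMap_eq' (by
    ext x
    simp [RingHom.algebraMap_toAlgebra])
  have _ : FaithfulSMul (Polynomial k) R := by
    rw [faithfulSMul_iff_algebraMap_injective]
    exact transcendental_iff_injective.1 h1
  have _ : Algebra.IsAlgebraic (Polynomial k) R := ⟨fun x => by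
    obtain ⟨P, hP, hx⟩ := h2 x
    exact ⟨P, hP, by rw [Polynomial.aeval_def, ← Polynomial.eval_map]; exact hx⟩⟩
  have h3 := trdeg_add_eq k (Polynomial k) (A := R)
  rw [trdeg_eq_zero (R := Polynomial k) (A := R), Polynomial.trdeg_of_isDomain, add_zero] at h3
  exact h3.symm

variable {X : Scheme.{0}} [X.Over An.SC]

theorem exists_curve [IsProper (X ↘ An.SC)] (D : Set ℂ)
    (hD : IsOpen D) (hDc : Convex ℝ D) (hne : D.Nonempty) (s : ℂ → An.Pts X) (hs : HolOn s D)
    (U : X.Opens) (hU : IsAffineOpen U) (hsU : ∀ z ∈ D, (s z).pt ∈ U) (t : Γ(X, U))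
    (ht : ∀ z ∈ D, evAt (s z) U t = z)
    (halg : ∀ g : Γ(X, U), ∃ P : Polynomial (Polynomial ℂ), P ≠ 0 ∧
      ∀ z ∈ D, (P.map (Polynomial.evalRingHom z)).eval (evAt (s z) U g) = 0) :
    ∃ (N : Scheme.{0}) (_ : N.Over An.SC) (_ : IsIntegral N) (_ : IsProper (N ↘ An.SC))
      (_ : SmoothOfRelativeDimension 1 (N ↘ An.SC)) (ν : N ⟶ X) (_ : ν.IsOver An.SC)
      (D' : Set ℂ) (s' : ℂ → An.Pts N), IsOpen D' ∧ D'.Nonempty ∧ D' ⊆ D ∧ HolOn s' D' ∧
        ∀ z ∈ D', An.Pts.map ν (s' z) = s z := by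
  let A := Γ(X, U)
  let evz (z : D) : A →+* ℂ := evHom (s z) U (hsU z z.2)
  have hev : ∀ (z : D) (g : A), evz z g = evAt (s z) U g := fun z g =>
    (evAt_of_mem (hsU z z.2) g).symm
  let P : Ideal A := ⨅ z : D, RingHom.ker (evz z)
  have hP : ∀ g : A, g ∈ P ↔ ∀ z : D, evz z g = 0 := fun g => by
    rw [Ideal.mem_iInf]; rfl
  have hdiff : ∀ g : A, DifferentiableOn ℂ (fun z => evAt (s z) U g) D := fun g =>
    (hs.differentiableOn U g).mono fun z hz => ⟨hz, hsU z hz⟩
  have hPp : P.IsPrime := by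
    refine ⟨?_, ?_⟩
    · obtain ⟨z, hz⟩ := hne
      intro h
      have h1 : (1 : A) ∈ P := h ▸ Submodule.mem_top
      have h2 := (hP 1).1 h1 ⟨z, hz⟩
      rw [map_one] at h2
      exact one_ne_zero h2
    · intro a b hab
      have h1 := (hP _).1 hab
      have h2 := AnalyticOnNhd.eq_zero_or_eq_zero_of_mul_eq_zero
        ((hdiff a).analyticOnNhd hD) ((hdiff b).analyticOnNhd hD)
        (fun z hz => by
          have h3 := h1 ⟨z, hz⟩
          rw [map_mul, hev, hev] at h3
          exact h3) hDc.isPreconnected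
      rcases h2 with h2 | h2
      · left
        exact (hP _).2 fun z => by rw [hev]; exact h2 z z.2
      · right
        exact (hP _).2 fun z => by rw [hev]; exact h2 z z.2
  let _ : Algebra ℂ A := algU U
  have hAft : Algebra.FiniteType ℂ A := finiteType_algU hU
  let R := A ⧸ P
  have hRd : IsDomain R := Ideal.Quotient.isDomain P
  have hRft : Algebra.FiniteType ℂ R := inferInstance
  let evR (z : D) : R →+* ℂ := Ideal.Quotient.lift P (evz z) fun a ha => (hP a).1 ha z
  have hevR : ∀ (z : D) (a : A), evR z (Ideal.Quotient.mk P a) = evAt (s z) U a := fun z a => by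
    rw [← hev]; rfl
  have hR0 : ∀ x : R, (∀ z, evR z x = 0) → x = 0 := by
    intro x hx
    obtain ⟨a, rfl⟩ := Ideal.Quotient.mk_surjective x
    exact Ideal.Quotient.eq_zero_iff_mem.2 ((hP a).2 fun z => hx z)
  have hevc : ∀ (z : D) (c : ℂ), evR z (algebraMap ℂ R c) = c := fun z c =>
    ev_strU (s z) U (hsU z z.2) c
  let τ : R := Ideal.Quotient.mk P t
  have hτ : ∀ z : D, (evR z).comp (Polynomial.aeval (R := ℂ) τ).toRingHom =
      Polynomial.evalRingHom (z : ℂ) := by
    intro z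
    refine Polynomial.ringHom_ext (fun c => ?_) ?_
    · simp only [RingHom.comp_apply, AlgHom.toRingHom_eq_coe, RingHom.coe_coe, Polynomial.aeval_C,
        Polynomial.coe_evalRingHom, Polynomial.eval_C]
      exact hevc z c
    · simp only [RingHom.comp_apply, AlgHom.toRingHom_eq_coe, RingHom.coe_coe, Polynomial.aeval_X,
        Polynomial.coe_evalRingHom, Polynomial.eval_X]
      exact (hevR z t).trans (ht z z.2)
  have htr : Algebra.trdeg ℂ R = 1 := by
    refine trdeg_eq_one ℂ R τ ?_ fun x => ?_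
    · rw [transcendental_iff]
      intro p hp
      have hDi : D.Infinite := by
        obtain ⟨z, hz⟩ := hne
        exact infinite_of_mem_nhds z (hD.mem_nhds hz)
      refine Polynomial.eq_zero_of_infinite_isRoot p (hDi.mono fun z hz => ?_)
      have h1 := RingHom.congr_fun (hτ ⟨z, hz⟩) p
      have h2 : evR ⟨z, hz⟩ (Polynomial.aeval τ p) = Polynomial.eval z p := h1
      rw [hp, map_zero] at h2
      exact h2.symm
    · obtain ⟨g, rfl⟩ := Ideal.Quotient.mk_surjective x
      obtain ⟨Q, hQ, hQ0⟩ := halg g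
      refine ⟨Q, hQ, hR0 _ fun z => ?_⟩
      rw [← Polynomial.eval_map_apply, Polynomial.map_map, hτ z, hevR]
      exact hQ0 z z.2
  -- the morphism `Spec R ⟶ X`
  let q : Spec (CommRingCat.of R) ⟶ X :=
    Spec.map (CommRingCat.ofHom (Ideal.Quotient.mk P)) ≫ hU.fromSpec
  have hq : q ≫ (X ↘ An.SC) = Spec.map (CommRingCat.ofHom (algebraMap ℂ R)) := by
    rw [Category.assoc, fromSpec_over hU, ← Spec.map_comp]
    rfl
  obtain ⟨N, hNo, hNi, hNp, hNs, ν, hν, r, hr0, κ, hκ1, hκ2⟩ :=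
    exists_curve_of_domain ℂ R htr q hq
  obtain ⟨ρ, hρ⟩ := Ideal.Quotient.mk_surjective r
  -- the smaller disc
  let D' : Set ℂ := D ∩ (fun z => evAt (s z) U ρ) ⁻¹' {0}ᶜ
  have hD' : IsOpen D' := (hdiff ρ).continuousOn.isOpen_inter_preimage hD isOpen_compl_singleton
  have hne' : D'.Nonempty := by
    by_contra hcon
    rw [Set.not_nonempty_iff_eq_empty] at hcon
    refine hr0 (hR0 r fun z => ?_)
    rw [← hρ, hevR]
    by_contra h1
    have h2 : (z : ℂ) ∈ D' := ⟨z.2, h1⟩
    rw [hcon] at h2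
    exact h2
  let Rr := Localization.Away r
  let _ : (Spec (CommRingCat.of Rr)).Over An.SC :=
    ⟨Spec.map (CommRingCat.ofHom (algebraMap ℂ Rr))⟩
  have hκo : κ.IsOver An.SC := ⟨hκ1⟩
  have hu : ∀ z (hz : z ∈ D'), IsUnit (evR ⟨z, hz.1⟩ r) := fun z hz => by
    rw [← hρ, hevR]
    exact isUnit_iff_ne_zero.2 hz.2
  let χ (z : ℂ) (hz : z ∈ D') : Rr →+* ℂ := IsLocalization.Away.lift (S := Rr) r (hu z hz)
  have hχ : ∀ z (hz : z ∈ D') (x : R), χ z hz (algebraMap R Rr x) = evR ⟨z, hz.1⟩ x := fun z hz x =>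
    IsLocalization.Away.lift_eq (S := Rr) r (hu z hz) x
  let pt' (z : ℂ) (hz : z ∈ D') : An.Pts (Spec (CommRingCat.of Rr)) :=
    ⟨Spec.map (CommRingCat.ofHom (χ z hz)), by
      change Spec.map (CommRingCat.ofHom (χ z hz)) ≫ Spec.map (CommRingCat.ofHom (algebraMap ℂ Rr)) = _
      rw [← Spec.map_comp, ← Spec.map_id]
      congr 1
      ext c
      change χ z hz (algebraMap ℂ Rr c) = c
      rw [IsScalarTower.algebraMap_apply ℂ R Rr, hχ z hz]
      exact hevc ⟨z, hz.1⟩ c⟩
  obtain ⟨z₀, hz₀⟩ := hne'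
  classical
  let sT (z : ℂ) : An.Pts (Spec (CommRingCat.of Rr)) :=
    if hz : z ∈ D' then pt' z hz else pt' z₀ hz₀
  have hsT : ∀ z (hz : z ∈ D'), sT z = pt' z hz := fun z hz => dif_pos hz
  have hev' : ∀ z (hz : z ∈ D') (g : Γ(Spec (CommRingCat.of Rr), ⊤)),
      evAt (sT z) ⊤ g = χ z hz ((Scheme.ΓSpecIso (CommRingCat.of Rr)).hom g) := by
    intro z hz g
    rw [hsT z hz, evAt_top]
    have h3 : (Spec.map (CommRingCat.ofHom (χ z hz))).appLE ⊤ ⊤ le_top =
        (Spec.map (CommRingCat.ofHom (χ z hz))).appTop := by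
      simp [Scheme.Hom.appLE, Scheme.Hom.appTop]
    have h4 := Scheme.ΓSpecIso_naturality (CommRingCat.ofHom (χ z hz))
    change (Scheme.ΓSpecIso (CommRingCat.of ℂ)).hom
      ((Spec.map (CommRingCat.ofHom (χ z hz))).appLE ⊤ ⊤ le_top g) = _
    rw [h3]
    exact ConcreteCategory.congr_hom h4 g
  have hT : HolOn sT D' := by
    refine holOn_of_chart (isAffineOpen_top _) hD' (fun _ _ => trivial) fun g => ?_
    obtain ⟨⟨a, ⟨_, n, rfl⟩⟩, ha⟩ := IsLocalization.surj (Submonoid.powers r)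
      ((Scheme.ΓSpecIso (CommRingCat.of Rr)).hom g : Rr)
    obtain ⟨b, rfl⟩ := Ideal.Quotient.mk_surjective a
    have key : ∀ z ∈ D', evAt (sT z) ⊤ g = evAt (s z) U b / (evAt (s z) U ρ) ^ n := by
      intro z hz
      have h1 := congrArg (χ z hz) ha
      have h2 : evR ⟨z, hz.1⟩ r = evAt (s z) U ρ := by rw [← hρ, hevR]
      rw [map_mul, hχ z hz, hχ z hz, map_pow, hevR, h2] at h1
      rw [hev' z hz, eq_div_iff (pow_ne_zero n hz.2)]
      exact h1
    have h1 : DifferentiableOn ℂ (fun z => evAt (s z) U b / (evAt (s z) U ρ) ^ n) D' :=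
      ((hdiff b).mono Set.inter_subset_left).fun_div
        (((hdiff ρ).mono Set.inter_subset_left).fun_pow n) fun z hz => pow_ne_zero n hz.2
    exact h1.congr key
  refine ⟨N, hNo, hNi, hNp, hNs, ν, hν, D', fun z => An.Pts.map κ (sT z), hD', ⟨z₀, hz₀⟩,
    Set.inter_subset_left, holOn_map κ hT, fun z hz => ?_⟩
  apply Subtype.ext
  change ((sT z).1 ≫ κ) ≫ ν = (s z).1
  rw [hsT z hz, Category.assoc, hκ2, ← Category.assoc]
  change (Spec.map (CommRingCat.ofHom (χ z hz)) ≫
    Spec.map (CommRingCat.ofHom (algebraMap R (Localization.Away r)))) ≫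
    Spec.map (CommRingCat.ofHom (Ideal.Quotient.mk P)) ≫ hU.fromSpec = (s z).1
  rw [← Spec.map_comp, ← Category.assoc, ← Spec.map_comp]
  have h1 : CommRingCat.ofHom (Ideal.Quotient.mk P) ≫
      CommRingCat.ofHom (algebraMap R (Localization.Away r)) ≫ CommRingCat.ofHom (χ z hz) =
      CommRingCat.ofHom (evHom (s z) U (hsU z hz.1)) := by
    ext g
    exact hχ z hz (Ideal.Quotient.mk P g)
  rw [h1]
  exact congrArg Subtype.val (ofChart_evHom hU (s z) (hsU z hz.1))

end Groth.Agent.Gaga.H565.ArcCurve
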